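import Mathlib
import Cfsg.Agent.TcData.Fi22.I3510.Rel0
import Cfsg.Agent.TcData.Fi22.I3510.Up

set_option autoImplicit false
set_option maxRecDepth 100000
set_option linter.all false

namespace Cfsg.Agent.TcData.Fi22.I3510

open Cfsg.Spor Cfsg.Agent.Lib.TcFacts Cfsg.Agent.Lib.TcBits Cfsg.Agent.Lib.TcPres Cfsg.Spor.Fi22 Cfsg.Agent.TcData.Fi22

theorem hc : ∀ x ∈ nodesL, ∀ y ∈ nodesL, ∀ j, j < 12 →
    chkW ((FreeGroup.of x * FreeGroup.of y) ^ coxLabel edges x y) j = true := by
  intro x hx y hy
  simp only [nodesL, List.mem_cons, List.not_mem_nil, or_false] at hx hy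
  rcases hx with rfl | rfl | rfl | rfl | rfl | rfl | rfl | rfl | rfl <;> rcases hy with rfl | rfl | rfl | rfl | rfl | rfl | rfl | rfl | rfl
  exacts [c_a_a,
    c_a_b,
    c_a_c,
    c_a_d,
    c_a_e,
    c_a_f,
    c_a_g,
    c_a_h,
    c_a_i,
    c_b_a,
    c_b_b,
    c_b_c,
    c_b_d,
    c_b_e,
    c_b_f,
    c_b_g,
    c_b_h,
    c_b_i,
    c_c_a,
    c_c_b,
    c_c_c,
    c_c_d,
    c_c_e,
    c_c_f,
    c_c_g,
    c_c_h,
    c_c_i,
    c_d_a,
    c_d_b,
    c_d_c,
    c_d_d,
    c_d_e,
    c_d_f,
    c_d_g,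
    c_d_h,
    c_d_i,
    c_e_a,
    c_e_b,
    c_e_c,
    c_e_d,
    c_e_e,
    c_e_f,
    c_e_g,
    c_e_h,
    c_e_i,
    c_f_a,
    c_f_b,
    c_f_c,
    c_f_d,
    c_f_e,
    c_f_f,
    c_f_g,
    c_f_h,
    c_f_i,
    c_g_a,
    c_g_b,
    c_g_c,
    c_g_d,
    c_g_e,
    c_g_f,
    c_g_g,
    c_g_h,
    c_g_i,
    c_h_a,
    c_h_b,
    c_h_c,
    c_h_d,
    c_h_e,
    c_h_f,
    c_h_g,
    c_h_h,
    c_h_i,
    c_i_a,
    c_i_b,
    c_i_c,
    c_i_d,
    c_i_e,
    c_i_f,
    c_i_g,
    c_i_h,
    c_i_i]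

theorem he0 : ∀ i, i < extra.length → ∀ j, j < 12 → chkW (extra.getD i 1) j = true := by
  intro i hi
  have hl : extra.length = 3 := rfl
  rw [hl] at hi
  interval_cases i
  exacts [e_0, e_1, e_2]

theorem he : ∀ r ∈ extra, ∀ j, j < 12 → chkW r j = true := by
  intro r hr
  obtain ⟨i, hi, rfl⟩ := List.getElem_of_mem hr
  have := he0 i hi
  rwa [List.getD_eq_getElem _ _ hi] at this

theorem hR : ∀ r ∈ RR, FreeGroup.lift (genPerm pr) r = 1 :=
  lift_of_checks hnodes hv (fun x hx y hy => of_chkW (hc x hx y hy)) (fun r hr => of_chkW (he r hr))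

/-- The representation. -/
noncomputable def Phi : PresentedGroup RR →* Equiv.Perm ℕ := repOf RR pr hR

/-- The generators, in the free group. -/
noncomputable def gensFG : List (FreeGroup Gen) := gensL.map FreeGroup.of

/-- The generators of the subgroup, as a list. -/
noncomputable def SL : List (FreeGroup Gen) := [a, c, d, e, f, g, h, i, (a * b * c * d * e * h) ^ 5]

theorem hSL {Q : FreeGroup Gen → Prop} (hsl : ∀ s ∈ SL, Q s) : ∀ s ∈ SS, Q s := by
  intro s hs
  simp only [SS, Set.mem_insert_iff, Set.mem_singleton_iff] at hs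
  rcases hs with rfl | rfl | rfl | rfl | rfl | rfl | rfl | rfl | rfl
  exacts [hsl _ (by simp [SL]),
    hsl _ (by simp [SL]),
    hsl _ (by simp [SL]),
    hsl _ (by simp [SL]),
    hsl _ (by simp [SL]),
    hsl _ (by simp [SL]),
    hsl _ (by simp [SL]),
    hsl _ (by simp [SL]),
    hsl _ (by simp [SL])]

theorem hfixL : ∀ s ∈ SL, wordApply (sgnProg pr) s.toWord 1 = 1 := by decide +kernel

theorem hfix : ∀ h ∈ HH, Phi h 0 = 0 := fix_of_words hR hv (hSL hfixL)

theorem hSLmem : ∀ s ∈ SL, PresentedGroup.mk RR s ∈ HH := by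
  intro s hs
  simp only [SL, List.mem_cons, List.not_mem_nil, or_false] at hs
  rcases hs with rfl | rfl | rfl | rfl | rfl | rfl | rfl | rfl | rfl
  exacts [mem_map_closure (by simp), mem_map_closure (by simp), mem_map_closure (by simp), mem_map_closure (by simp), mem_map_closure (by simp), mem_map_closure (by simp), mem_map_closure (by simp), mem_map_closure (by simp), mem_map_closure (by simp)]

theorem hgens : ∀ r ∈ gensFG, PresentedGroup.mk RR r ∈ (⊤ : Subgroup (PresentedGroup RR)) :=
  fun _ _ => trivial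

/-- A generation of the orbit of the base point. -/
def G0 : ℕ := nat_lit 0x2000000c500035003f

theorem G0_eq : grow pr (gensFG.map FreeGroup.toWord) 1 (2 ^ 0) = G0 := by decide +kernel

theorem G0_s : Sound Phi ⊤ 0 G0 :=
  G0_eq ▸ sound_grow hR hv gensFG hgens 1 (2 ^ 0) (sound_single _ 0)

/-- A generation of the orbit of the base point. -/
def G1 : ℕ := nat_lit 0x24001000002d8018000ff81e007fe1e07fff3e3fffef7fffffffff

theorem G1_eq : grow pr (gensFG.map FreeGroup.toWord) 1 G0 = G1 := by decide +kernel

theorem G1_s : Sound Phi ⊤ 0 G1 :=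
  G1_eq ▸ sound_grow hR hv gensFG hgens 1 G0 G0_s

/-- A generation of the orbit of the base point. -/
def G2 : ℕ := nat_lit 0x200000000008000000000000000000000000000084200000000842000000000000000000000081084900010042124000000000000000011212550089092a80000000000001894af86252be000000001172dfcb96fe0000004fbfe7dff00006fffbffe003ffffffc0ffffff87ffffe7fffffbfffffffffffffff

theorem G2_eq : grow pr (gensFG.map FreeGroup.toWord) 1 G1 = G2 := by decide +kernel

theorem G2_s : Sound Phi ⊤ 0 G2 :=
  G2_eq ▸ sound_grow hR hv gensFG hgens 1 G1 G1_s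

/-- A generation of the orbit of the base point. -/
def G3 : ℕ := nat_lit 0x50000000000000000000000000000000000000000001800000000000000002e000001000000000000000000000000005000003c000000000000403e0001804000000000000000280000007c0003c00000000e003c00e0800001f80000780180780008183c00f000004f0021e0620020fffed01e01e0780941e00600e0781c011403c08719424afffbed8091e070c56c0f0020e071c7212e00e31cdcaf5ffff747030638e5270e0e2071c739a5e239bbdbfbffffdb038918e734af071ce39cdbbe5dffc9fffffffdb09cc739b76fe39b9b7fefffe4fffffffa4cdcdbfdff9bdffffffa5fffffd737bffffdfffff99ffffcfdffffffffedfffeffffffffffffffffffffffffffffffffffffffffffffffffffffffffffffff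

theorem G3_eq : grow pr (gensFG.map FreeGroup.toWord) 1 G2 = G3 := by decide +kernel

theorem G3_s : Sound Phi ⊤ 0 G3 :=
  G3_eq ▸ sound_grow hR hv gensFG hgens 1 G2 G2_s

/-- A generation of the orbit of the base point. -/
def G4 : ℕ := nat_lit 0x5222000210070e005c0c40012fbb0fe3420304000f3f200c3ffa40e10022c2dffff1fff7d9d200c0400843e7f3000e97ffff7f281c080220dddfffff87fffff3b5b20014220168787ee0003f8c7fffffbfa4e09018b721fedfffffc3fffff1fddd80005a60de5e0fb0003ff3c3fffffffffb03e2c5f7f43ffb7fffff17fffebf3bc00afd97de2fc001ffffbc3efffffffffd83fbf7fff87fef7fffffd7fffefefc05ff7f2fc003ffeffff0fefffffffffffe0fffffe1fefffffffbffffef85ffe3f023ffffeffff07ffffffffffffc3fffc3fffffffffffff87fcf85ffffffefffff0fffffffffffe1ff8fffffffffffe3e73ffbffffffff7ffffcffffffffffc7e7ffffffffff3bbffffffbffffffffffffff7fffffffff3dffffffffff76ffffffffefffffffffffffffffffffffbbffffffffeffffffffeffffffffffffffffffffffff7ffffffffffffffffffffffffffffffffffffffffffffffffffffffffffffffffffffffffffffffffffffffffffffffffffffffffffffffffffffffffffffffffffffffffffffffffffffffffffffffffffffffffffffffffffffffffffffffffffffffffffffffffffffff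

theorem G4_eq : grow pr (gensFG.map FreeGroup.toWord) 1 G3 = G4 := by decide +kernel

theorem G4_s : Sound Phi ⊤ 0 G4 :=
  G4_eq ▸ sound_grow hR hv gensFG hgens 1 G3 G3_s

/-- A generation of the orbit of the base point. -/
def G5 : ℕ := nat_lit 0x3fffffffffffffffffffffffffffffffffffffffffffffffffffffffffffffffffffffffffffffffffffffffffffffffffffffffffffffffffffffffffffffffffffffffffffffffffffffffffffffffffffffffffffffffffffffffffffffffffffffffffffffffffffffffffffffffffffffffffffffffffffffffffffffffffffffffffffffffffffffffffffffffffffffffffffffffffffffffffffffffffffffffffffffffffffffffffffffffffffffffffffffffffffffffffffffffffffffffffffffffffffffffffffffffffffffffffffffffffffffffffffffffffffffffffffffffffffffffffffffffffffffffffffffffffffffffffffffffffffffffffffffffffffffffffffffffffffffffffffffffffffffffffffffffffffffffffffffffffffffffffffffffffffffffffffffffffffffffffffffffffffffffffffffffffffffffffffffffffffffffffffffffffffffffffffffffffffffffffffffffffffffffffffffffffffffffffffffffffffffffffffffffffffffffffffffffffffffffffffffffffffffffffffffffffffffffffffffffffffffffffffffffffffffffffffffffffffffffffffff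

theorem G5_eq : grow pr (gensFG.map FreeGroup.toWord) 1 G4 = G5 := by decide +kernel

theorem G5_s : Sound Phi ⊤ 0 G5 :=
  G5_eq ▸ sound_grow hR hv gensFG hgens 1 G4 G4_s

/-- A generation of the orbit of the base point. -/
def G6 : ℕ := nat_lit 0x3fffffffffffffffffffffffffffffffffffffffffffffffffffffffffffffffffffffffffffffffffffffffffffffffffffffffffffffffffffffffffffffffffffffffffffffffffffffffffffffffffffffffffffffffffffffffffffffffffffffffffffffffffffffffffffffffffffffffffffffffffffffffffffffffffffffffffffffffffffffffffffffffffffffffffffffffffffffffffffffffffffffffffffffffffffffffffffffffffffffffffffffffffffffffffffffffffffffffffffffffffffffffffffffffffffffffffffffffffffffffffffffffffffffffffffffffffffffffffffffffffffffffffffffffffffffffffffffffffffffffffffffffffffffffffffffffffffffffffffffffffffffffffffffffffffffffffffffffffffffffffffffffffffffffffffffffffffffffffffffffffffffffffffffffffffffffffffffffffffffffffffffffffffffffffffffffffffffffffffffffffffffffffffffffffffffffffffffffffffffffffffffffffffffffffffffffffffffffffffffffffffffffffffffffffffffffffffffffffffffffffffffffffffffffffffffffffffffffffffff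

theorem G6_eq : grow pr (gensFG.map FreeGroup.toWord) 1 G5 = G6 := by decide +kernel

theorem G6_s : Sound Phi ⊤ 0 G6 :=
  G6_eq ▸ sound_grow hR hv gensFG hgens 1 G5 G5_s

theorem Gfull : G6 = 2 ^ 3510 - 1 := by decide +kernel

theorem hs : ∀ i, i < 3510 → ∃ g, Phi g 0 = i := exists_of_sound (Gfull ▸ G6_s)

theorem bij : HH.index = 3510 ∧ Function.Injective (betaF HH Phi hfix) ∧
    (∀ q, betaF HH Phi hfix q < 3510) ∧ ∀ i, i < 3510 → ∃ q, betaF HH Phi hfix q = i :=
  index_eq_and_bij HH hfix index_le'.1 index_le'.2 hs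

/-- A mask of an orbit. -/
def O1 : ℕ := nat_lit 0x3ffffffffffffffffffffffffffe7ffffffffffffffffffffffffffff6ff3ffffffffffffdfffffffffffff6ffffffffffffff6fff1fffffffffffffffffffafffffffffffffffb4ffffffffffffffd9fffc7fffffffffffffffffffedff97ffffffffffffffe327ffffffffffdfe4fffcffffffffffffff6ffffffffcbfe1effffffffffffffc43ffffffffdfc3ffefffffffffffffffff27fffffff87fc3e8fffffffffffff03fffffcfc3ffdfffffffffdfffffe7fffc1fffffe1fe17c1fffffeffff07fff9f0fffffffdffffff8fffffc3fff83fffc3f03fc1fffe7fb87fe387ffffffffc7ffff7f83fffc3fe1ff8781ffc3ff1f61f98ffffffffffffb87fff7e7c3ff0fc3f180ffde1f9d8e47ffffffffffffffff3e1ff9ff1f87e38e23fc3f78e68c9fffffffffffffffffd3f0ffdf1f8e38c641ff1ce3210ffffffffffffffffffcf1f1df8e38c6481dc64407fffffffffffffffffff0f8e31c632401a2003fffffffffdffffffffff01c64648010001ffffffffffffffffe006420000005fffffffffffff0020000067fffffffffe0000013ffffffff00001ffffffe0003fffffc007ffff801fffe001fffa003fff003ffe07e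

theorem O1_grow : grow pr (SL.map FreeGroup.toWord) 6 (2 ^ 1) = O1 := by decide +kernel

theorem O1_sound : Sound Phi HH 1 O1 :=
  O1_grow ▸ sound_grow hR hv SL hSLmem 6 (2 ^ 1) (sound_single _ _)

theorem O1_closedL : ∀ s ∈ SL, wordApply (sgnProg pr) s.toWord O1 = O1 := by decide +kernel

theorem O1_closed : Closed Phi HH O1 := closed_of_words hR hv (hSL O1_closedL)

theorem O1_p : O1.testBit 1 = true := by decide +kernel

theorem O1_lt : O1 < 2 ^ 2 ^ 12 := by decide +kernel

theorem O1_card : sumRange O1.testBit 12 0 = 2816 := by decide +kernel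

theorem O1_orbit : ∃ q : PresentedGroup RR ⧸ HH,
    (betaF HH Phi hfix '' MulAction.orbit HH q = {i | O1.testBit i = true}) ∧
      (MulAction.orbit HH q).ncard = 2816 :=
  orbit_of_mask hfix bij.2.1 bij.2.2.2 (p := 1) (by decide) O1_sound O1_closed O1_p O1_lt O1_card

/-- A mask of an orbit. -/
def O2 : ℕ := nat_lit 0x180000000000000000000000000000900c000000000000200000000000009000000000000009000e000000000000000000050000000000000004b0000000000000026000380000000000000000000120068000000000000001cd80000000000201b0003000000000000009000000003401e1000000000000003bc00000000203c00100000000000000000d800000007803c170000000000000fc00000303c002000000000200000180003e000001e01e83e0000010000f800060f000000020000007000003c0007c0003c0fc03e00018047801c7800000000380000807c0003c01e00787e003c00e09e0670000000000004780008183c00f03c0e7f0021e06271b80000000000000000c1e00600e0781c71dc03c08719736000000000000000002c0f0020e071c739be00e31cdef00000000000000000030e0e2071c739b7e239bbf80000000000000000000f071ce39cdbfe5dffc00000000020000000000fe39b9b7fefffe00000000000000001ff9bdffffffa0000000000000ffdfffff980000000001fffffec00000000ffffe0000001fffc000003ff800007fe0001ffe0005ffc000ffc001f80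

theorem O2_grow : grow pr (SL.map FreeGroup.toWord) 5 (2 ^ 7) = O2 := by decide +kernel

theorem O2_sound : Sound Phi HH 7 O2 :=
  O2_grow ▸ sound_grow hR hv SL hSLmem 5 (2 ^ 7) (sound_single _ _)

theorem O2_closedL : ∀ s ∈ SL, wordApply (sgnProg pr) s.toWord O2 = O2 := by decide +kernel

theorem O2_closed : Closed Phi HH O2 := closed_of_words hR hv (hSL O2_closedL)

theorem O2_p : O2.testBit 7 = true := by decide +kernel

theorem O2_lt : O2 < 2 ^ 2 ^ 12 := by decide +kernel

theorem O2_card : sumRange O2.testBit 12 0 = 693 := by decide +kernel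

theorem O2_orbit : ∃ q : PresentedGroup RR ⧸ HH,
    (betaF HH Phi hfix '' MulAction.orbit HH q = {i | O2.testBit i = true}) ∧
      (MulAction.orbit HH q).ncard = 693 :=
  orbit_of_mask hfix bij.2.1 bij.2.2.2 (p := 7) (by decide) O2_sound O2_closed O2_p O2_lt O2_card

end Cfsg.Agent.TcData.Fi22.I3510
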